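import Mathlib

/-!
# S3175 farm (architect helper6) — leaf L01: the stability step

`α` an automorphism of the finite 2-group `P` with `α^[n] = id`, `n` odd. If `α` fixes the subgroup `A` pointwise and
`b⁻¹ * α b ∈ A`, then `α b = b`.

RECIPE. Put `a := b⁻¹ * α b`, so `α b = b * a` and `α a = a`. By induction on `k`: `(⇑α)^[k] b = b * a ^ k`
(`Function.iterate_succ_apply'`, `map_mul`, `map_pow`, `hA`). With `k = n`: `b * a ^ n = b`, so `a ^ n = 1`, so `orderOf a ∣ n`.
`hP` gives `orderOf a = 2 ^ j` (`IsPGroup.iff_orderOf` / `hP a`), and `n` odd forces `j = 0` (`Nat.Coprime` of `2 ^ j` and odd `n`,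
e.g. `Nat.Coprime.eq_one_of_dvd`), so `a = 1` (`orderOf_eq_one_iff`) and `α b = b`.
-/

set_option autoImplicit false

namespace Cfsg.Agent.Lib.Helper6.RU75

variable {P : Type*} [Group P] [Finite P]

theorem stab_step (hP : IsPGroup 2 P) (α : P ≃* P) (n : ℕ) (hn : Odd n) (hαn : ∀ x : P, (⇑α)^[n] x = x)
    (A : Subgroup P) (hA : ∀ a ∈ A, α a = a) (b : P) (hb : b⁻¹ * α b ∈ A) : α b = b := by
  set a := b⁻¹ * α b with ha
  have hαb : α b = b * a := by rw [ha]; group
  have hαa : α a = a := hA a hb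
  have hiter : ∀ k : ℕ, (⇑α)^[k] b = b * a ^ k := by
    intro k
    induction k with
    | zero => simp
    | succ k ih =>
      rw [Function.iterate_succ_apply', ih, map_mul, map_pow, hαa, hαb, pow_succ']
      group
  have h1 : b * a ^ n = b := by rw [← hiter n]; exact hαn b
  have h2 : a ^ n = 1 := by
    have := congrArg (fun x => b⁻¹ * x) h1
    simpa using this
  obtain ⟨j, hj⟩ := (IsPGroup.iff_orderOf.mp hP) a
  have hdvd : orderOf a ∣ n := orderOf_dvd_of_pow_eq_one h2
  have hj0 : j = 0 := by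
    by_contra hne
    have h2dvd : 2 ∣ orderOf a := by
      rw [hj]; exact dvd_pow_self 2 hne
    have : 2 ∣ n := h2dvd.trans hdvd
    obtain ⟨m, hm⟩ := hn
    omega
  rw [hj0, pow_zero, orderOf_eq_one_iff] at hj
  rw [hαb, hj, mul_one]

end Cfsg.Agent.Lib.Helper6.RU75
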