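import Mathlib
import Cfsg.Agent.Lib.Helper6.RU75.L01

/-!
# S3175 farm (architect helper6) — leaf L02: the index-2 step

`A ≤ B`, `|B : A| ≤ 2`, `α` fixes `A` pointwise and maps `B` into `B`  ⟹  `α` fixes `B` pointwise.

RECIPE. Let `b ∈ B`. If `b ∈ A` use `hA`. Otherwise `α b ∈ B` and `α b ∉ A` (if `α b ∈ A` then `α (α b) = α b` by `hA`, so
`α b = b` by injectivity of `α`, so `b ∈ A`). Since `A.relIndex B ≤ 2` and `A.subgroupOf B ≠ ⊤`, `(A.subgroupOf B).index = 2`
(`Subgroup.relIndex`, index `1` iff `⊤`: `Subgroup.index_eq_one`; index `≠ 0` by finiteness), hence for `x y : ↥B` both outside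
`A.subgroupOf B` one has `x⁻¹ * y ∈ A.subgroupOf B` (`Subgroup.mul_mem_iff_of_index_two` + `inv_mem_iff`). So `b⁻¹ * α b ∈ A`;
finish with `stab_step` (L01).
-/

set_option autoImplicit false

namespace Cfsg.Agent.Lib.Helper6.RU75

variable {P : Type*} [Group P] [Finite P]

theorem idx2_step (hP : IsPGroup 2 P) (α : P ≃* P) (n : ℕ) (hn : Odd n) (hαn : ∀ x : P, (⇑α)^[n] x = x)
    (A B : Subgroup P) (hAB : A ≤ B) (hidx : A.relIndex B ≤ 2) (hA : ∀ a ∈ A, α a = a)
    (hB : ∀ b ∈ B, α b ∈ B) : ∀ b ∈ B, α b = b := by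
  intro b hbB
  by_cases hbA : b ∈ A
  · exact hA b hbA
  · have hαbB : α b ∈ B := hB b hbB
    have hαbA : α b ∉ A := by
      intro h
      apply hbA
      have h1 : α (α b) = α b := hA _ h
      have h2 : α b = b := α.injective h1
      rw [← h2]; exact h
    -- the index is two
    have hne : A.subgroupOf B ≠ ⊤ := by
      intro h
      apply hbA
      have : (⟨b, hbB⟩ : ↥B) ∈ A.subgroupOf B := by rw [h]; exact Subgroup.mem_top _
      exact Subgroup.mem_subgroupOf.mp this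
    have hidx2 : (A.subgroupOf B).index = 2 := by
      have h1 : (A.subgroupOf B).index ≠ 1 := fun h => hne (Subgroup.index_eq_one.mp h)
      have h0 : (A.subgroupOf B).index ≠ 0 := Subgroup.index_ne_zero_of_finite
      have h2 : (A.subgroupOf B).index ≤ 2 := hidx
      omega
    have hx : (⟨b, hbB⟩ : ↥B) ∉ A.subgroupOf B := fun h => hbA (Subgroup.mem_subgroupOf.mp h)
    have hy : (⟨α b, hαbB⟩ : ↥B) ∉ A.subgroupOf B := fun h => hαbA (Subgroup.mem_subgroupOf.mp h)
    have hx' : (⟨b, hbB⟩ : ↥B)⁻¹ ∉ A.subgroupOf B := fun h => hx ((Subgroup.inv_mem_iff _).mp h)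
    have hmem : (⟨b, hbB⟩ : ↥B)⁻¹ * ⟨α b, hαbB⟩ ∈ A.subgroupOf B := by
      by_contra hcon
      have := (Subgroup.mul_mem_iff_of_index_two hidx2 (a := (⟨b, hbB⟩ : ↥B)⁻¹)
        (b := ⟨α b, hαbB⟩)).not.mp hcon
      tauto
    have hmem' : b⁻¹ * α b ∈ A := by
      have := Subgroup.mem_subgroupOf.mp hmem
      simpa using this
    exact stab_step hP α n hn hαn A hA b hmem'

end Cfsg.Agent.Lib.Helper6.RU75
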