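import Mathlib
import Cfsg.Agent.Lib.Helper27.MaxClassA

/-!
# S3175 farm (architect helper6) — leaf L03: `|Z_i(P)| = 2 ^ i` for `i ≤ 4`

`P` a finite 2-group with `|Z_4(P)| = 16 < |P|`.

RECIPE. `Z_4 ≠ ⊤` (cardinalities), so `Z_i ≠ ⊤` for `i ≤ 4` (`Subgroup.upperCentralSeries_mono`), so the chain is strict:
`Z_i < Z_{i+1}` for `i ≤ 3` (if `Z_i = Z_{i+1}` then `Z_i = ⊤`: see how `hlt` is proved in
`Cfsg.Agent.Lib.Helper27.MC.card_upperCentralSeries`, `Cfsg/Agent/Lib/Helper27/MaxClassA.lean` l.95-100, via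
`Subgroup.upperCentralSeries.eq_top`-style lemma and nilpotency `hP.isNilpotent`). All `|Z_i|` are powers of `2` dividing `16`
(`Subgroup.card_dvd_of_le`, `Nat.dvd_prime_pow`), strictly increasing from `|Z_0| = 1` to `|Z_4| = 16`, so `|Z_i| = 2 ^ i`
(write `|Z_i| = 2 ^ e i`, `e` strictly increasing `0 → 4` on `0..4`; `omega`). `pow_dvd_succ_of_lt` in the same file may help.
-/

set_option autoImplicit false

namespace Cfsg.Agent.Lib.Helper6.RU75

variable {P : Type*} [Group P] [Finite P]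

theorem card_upperCentralSeries_le_four (hP : IsPGroup 2 P)
    (h4 : Nat.card ↥(Subgroup.upperCentralSeries P 4) = 16) (hlt : 16 < Nat.card P) :
    ∀ i, i ≤ 4 → Nat.card ↥(Subgroup.upperCentralSeries P i) = 2 ^ i := by
  have h2 : Nat.Prime 2 := Nat.prime_two
  have : Fact (Nat.Prime 2) := ⟨h2⟩
  have : Group.IsNilpotent P := hP.isNilpotent
  have hZ4 : Subgroup.upperCentralSeries P 4 ≠ ⊤ := by
    intro htop
    rw [htop, Subgroup.card_top] at h4
    omega
  have hnt : ∀ i, i ≤ 4 → Subgroup.upperCentralSeries P i ≠ ⊤ := by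
    intro i hi htop
    apply hZ4
    rw [eq_top_iff, ← htop]
    exact Subgroup.upperCentralSeries_mono P hi
  have hlt' : ∀ i, i ≤ 4 →
      Subgroup.upperCentralSeries P i < Subgroup.upperCentralSeries P (i + 1) := by
    intro i hi
    refine lt_of_le_of_ne (Subgroup.upperCentralSeries_mono P (Nat.le_succ i)) ?_
    intro heq
    exact hnt i hi (Subgroup.upperCentralSeries.eq_top (Nat.succ_ne_self i).symm heq)
  have hdvd : ∀ i, i ≤ 4 → Nat.card ↥(Subgroup.upperCentralSeries P i) ∣ 2 ^ 4 := by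
    intro i hi
    have h := Subgroup.card_dvd_of_le (Subgroup.upperCentralSeries_mono P hi)
    rw [h4] at h
    exact h
  have hex : ∀ i, i ≤ 4 → ∃ e, Nat.card ↥(Subgroup.upperCentralSeries P i) = 2 ^ e := by
    intro i hi
    obtain ⟨e, -, hc⟩ := (Nat.dvd_prime_pow h2).1 (hdvd i hi)
    exact ⟨e, hc⟩
  have hstrict : ∀ i, i ≤ 3 → Nat.card ↥(Subgroup.upperCentralSeries P i)
      < Nat.card ↥(Subgroup.upperCentralSeries P (i + 1)) := by
    intro i hi
    have hl := hlt' i (by omega)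
    have hle : Nat.card ↥(Subgroup.upperCentralSeries P i)
        ≤ Nat.card ↥(Subgroup.upperCentralSeries P (i + 1)) :=
      Nat.le_of_dvd Nat.card_pos (Subgroup.card_dvd_of_le hl.le)
    refine lt_of_le_of_ne hle ?_
    intro hc
    exact hl.ne (Subgroup.eq_of_le_of_card_ge hl.le hc.ge)
  obtain ⟨e0, c0⟩ := hex 0 (by norm_num)
  obtain ⟨e1, c1⟩ := hex 1 (by norm_num)
  obtain ⟨e2, c2⟩ := hex 2 (by norm_num)
  obtain ⟨e3, c3⟩ := hex 3 (by norm_num)
  obtain ⟨e4, c4⟩ := hex 4 (by norm_num)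
  have s0 : Nat.card ↥(Subgroup.upperCentralSeries P 0)
      < Nat.card ↥(Subgroup.upperCentralSeries P 1) := hstrict 0 (by norm_num)
  have s1 : Nat.card ↥(Subgroup.upperCentralSeries P 1)
      < Nat.card ↥(Subgroup.upperCentralSeries P 2) := hstrict 1 (by norm_num)
  have s2 : Nat.card ↥(Subgroup.upperCentralSeries P 2)
      < Nat.card ↥(Subgroup.upperCentralSeries P 3) := hstrict 2 (by norm_num)
  have s3 : Nat.card ↥(Subgroup.upperCentralSeries P 3)
      < Nat.card ↥(Subgroup.upperCentralSeries P 4) := hstrict 3 (by norm_num)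
  rw [c0, c1] at s0
  rw [c1, c2] at s1
  rw [c2, c3] at s2
  rw [c3, c4] at s3
  have t0 : e0 < e1 := (Nat.pow_lt_pow_iff_right (by norm_num)).1 s0
  have t1 : e1 < e2 := (Nat.pow_lt_pow_iff_right (by norm_num)).1 s1
  have t2 : e2 < e3 := (Nat.pow_lt_pow_iff_right (by norm_num)).1 s2
  have t3 : e3 < e4 := (Nat.pow_lt_pow_iff_right (by norm_num)).1 s3
  have z4 : e4 = 4 := by
    rw [c4] at h4
    exact Nat.pow_right_injective (le_refl 2) (h4.trans (by norm_num : (16 : ℕ) = 2 ^ 4))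
  intro i hi
  interval_cases i
  · rw [c0]; congr 1; omega
  · rw [c1]; congr 1; omega
  · rw [c2]; congr 1; omega
  · rw [c3]; congr 1; omega
  · rw [c4]; congr 1

end Cfsg.Agent.Lib.Helper6.RU75
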