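import Mathlib
import Cfsg.Agent.Lib.Helper6.RU75.L02
import Cfsg.Agent.Lib.Helper6.RU75.L03

/-!
# S3175 farm (architect helper6) — leaf L04: an odd-order automorphism fixes `Z_4(P)` pointwise

RECIPE. Prove `∀ i ≤ 4, ∀ x ∈ Z_i, α x = x` by induction on `i`. `Z_0 = ⊥` (`Subgroup.upperCentralSeries_zero`). Step: apply
`idx2_step` (L02) with `A = Z_i`, `B = Z_{i+1}`: `hAB` by `Subgroup.upperCentralSeries_mono`; `A.relIndex B = 2` because
`Nat.card A * A.relIndex B = Nat.card B` (`Subgroup.card_mul_relIndex`? / `Subgroup.relIndex_mul_card`? — check the name; or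
`Subgroup.relIndex` + `Subgroup.card_mul_index` in `↥B`) and `|Z_i| = 2 ^ i` (L03); `hB`: `Z_{i+1}` is characteristic
(`inferInstance : (Subgroup.upperCentralSeries P (i+1)).Characteristic`), so
`Subgroup.Characteristic.map_eq`/`Subgroup.characteristic_iff_map_eq` gives `(Z_{i+1}).map α.toMonoidHom = Z_{i+1}`, hence
`α b ∈ Z_{i+1}` for `b ∈ Z_{i+1}` (`Subgroup.mem_map_of_mem`).
-/

set_option autoImplicit false

namespace Cfsg.Agent.Lib.Helper6.RU75

variable {P : Type*} [Group P] [Finite P]

theorem fix_Z4 (hP : IsPGroup 2 P) (h4 : Nat.card ↥(Subgroup.upperCentralSeries P 4) = 16)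
    (hlt : 16 < Nat.card P) (α : P ≃* P) (n : ℕ) (hn : Odd n) (hαn : ∀ x : P, (⇑α)^[n] x = x) :
    ∀ x ∈ Subgroup.upperCentralSeries P 4, α x = x := by
  have hc := card_upperCentralSeries_le_four hP h4 hlt
  have key : ∀ i, i ≤ 4 → ∀ x ∈ Subgroup.upperCentralSeries P i, α x = x := by
    intro i
    induction i with
    | zero =>
      intro _ x hx
      rw [Subgroup.upperCentralSeries_zero, Subgroup.mem_bot] at hx
      rw [hx, map_one]
    | succ i ih =>
      intro hi
      have hAB : Subgroup.upperCentralSeries P i ≤ Subgroup.upperCentralSeries P (i + 1) :=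
        Subgroup.upperCentralSeries_mono P (Nat.le_succ i)
      have hrel : (Subgroup.upperCentralSeries P i).relIndex (Subgroup.upperCentralSeries P (i + 1)) ≤ 2 := by
        have h1 := Subgroup.relIndex_mul_relIndex ⊥ _ _ bot_le hAB
        rw [Subgroup.relIndex_bot_left, Subgroup.relIndex_bot_left, hc i (by omega), hc (i + 1) hi,
          pow_succ] at h1
        have h2 : 0 < 2 ^ i := by positivity
        nlinarith
      have hmap : (Subgroup.upperCentralSeries P (i + 1)).map α.toMonoidHom =
          Subgroup.upperCentralSeries P (i + 1) :=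
        Subgroup.characteristic_iff_map_eq.mp inferInstance α
      have hB : ∀ b ∈ Subgroup.upperCentralSeries P (i + 1), α b ∈ Subgroup.upperCentralSeries P (i + 1) := by
        intro b hb
        have h : α b ∈ (Subgroup.upperCentralSeries P (i + 1)).map α.toMonoidHom :=
          Subgroup.mem_map_of_mem _ hb
        rwa [hmap] at h
      exact idx2_step hP α n hn hαn _ _ hAB hrel (ih (by omega)) hB
  exact key 4 le_rfl

end Cfsg.Agent.Lib.Helper6.RU75
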