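import Mathlib
import Cfsg.Agent.Lib.Helper6.RU75.L02

/-!
# S3175 farm (architect helper6) — leaf L05: `DihedralGroup 4` has no nontrivial automorphism of odd order

RECIPE. `D := DihedralGroup 4`, `Nat.card D = 8 = 2 ^ 3` (`DihedralGroup.nat_card`), so `IsPGroup 2 D` (`IsPGroup.of_card`).
Chain `⊥ ≤ C₂ ≤ C₄ ≤ ⊤` with `C₄ := Subgroup.zpowers (DihedralGroup.r 1)` (order 4: `DihedralGroup.orderOf_r_one`) and
`C₂ := Subgroup.zpowers (DihedralGroup.r 2)` (order 2). Apply `idx2_step` (L02) three times (`A.relIndex B ≤ 2` from the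
cardinalities 1, 2, 4, 8). Invariance: `β (r 1)` has order 4 (`MulEquiv.orderOf_eq`) and the elements of order 4 of `D` are `r 1`, `r 3`
(`DihedralGroup.orderOf_sr = 2`, `DihedralGroup.orderOf_r`; a `decide`/`fin_cases` on `ZMod 4` after `cases x`), both in `C₄`, so
`β` maps `C₄ = zpowers (r 1)` into itself (`map_zpow`); `r 2 = (r 1)^2`, so once `β` maps `C₄` to `C₄`, `β (r 2) = (β (r 1))^2 = r 2`
(both `(r 1)^2 = r 2` and `(r 3)^2 = r 6 = r 2`), so `β` even fixes `C₂` pointwise directly.
Alternative: brute force is fine too if you find a decidable formulation.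
-/

set_option autoImplicit false

namespace Cfsg.Agent.Lib.Helper6.RU75

namespace L05

theorem zmod4_odd_mul : ∀ a j : ZMod 4, (a = 1 ∨ a = 3) → a * j = 0 → j = 0 := by decide

theorem zmod4_two_mul_add_one : ∀ m : ZMod 4, 2 * m + 1 = 1 ∨ 2 * m + 1 = 3 := by decide

theorem zmod4_order : ∀ i : ZMod 4, 4 / Nat.gcd 4 i.val = 4 → i = 1 ∨ i = 3 := by decide

end L05

theorem dihedral4_aut_trivial (β : DihedralGroup 4 ≃* DihedralGroup 4) (n : ℕ) (hn : Odd n)
    (hβn : ∀ x : DihedralGroup 4, (⇑β)^[n] x = x) : ∀ x : DihedralGroup 4, β x = x := by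
  have hord : orderOf (β (DihedralGroup.r 1)) = 4 := by
    rw [MulEquiv.orderOf_eq]
    exact DihedralGroup.orderOf_r_one
  have h13 : β (DihedralGroup.r 1) = DihedralGroup.r 1 ∨ β (DihedralGroup.r 1) = DihedralGroup.r 3 := by
    generalize β (DihedralGroup.r 1) = g at hord
    cases g with
    | r i =>
      rw [DihedralGroup.orderOf_r] at hord
      rcases L05.zmod4_order i hord with h | h
      · left; rw [h]
      · right; rw [h]
    | sr i =>
      rw [DihedralGroup.orderOf_sr] at hord
      omega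
  have hr3 : (DihedralGroup.r 3 : DihedralGroup 4) = (DihedralGroup.r 1)⁻¹ := by decide
  have h2 : β (β (DihedralGroup.r 1)) = DihedralGroup.r 1 := by
    rcases h13 with h | h
    · rw [h, h]
    · rw [h, hr3, map_inv, h, hr3, inv_inv]
  obtain ⟨k, hk⟩ := hn
  have hiter : ∀ m : ℕ, (⇑β)^[2 * m] (DihedralGroup.r 1) = DihedralGroup.r 1 := by
    intro m
    induction m with
    | zero => rfl
    | succ m ih =>
      rw [show 2 * (m + 1) = 2 * m + 2 by ring, Function.iterate_add_apply]
      show (⇑β)^[2 * m] (β (β (DihedralGroup.r 1))) = _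
      rw [h2, ih]
  have hr1 : β (DihedralGroup.r 1) = DihedralGroup.r 1 := by
    have h3 := hβn (DihedralGroup.r 1)
    rw [hk] at h3
    have h4 : (⇑β)^[2 * k + 1] (DihedralGroup.r 1) = β ((⇑β)^[2 * k] (DihedralGroup.r 1)) :=
      Function.iterate_succ_apply' _ _ _
    rw [h4, hiter k] at h3
    exact h3
  have hr : ∀ i : ZMod 4, β (DihedralGroup.r i) = DihedralGroup.r i := by
    intro i
    have h4 : (DihedralGroup.r i : DihedralGroup 4) = (DihedralGroup.r 1) ^ i.val := by
      rw [DihedralGroup.r_one_pow, ZMod.natCast_zmod_val]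
    rw [h4, map_pow, hr1]
  obtain ⟨j, hj⟩ : ∃ j : ZMod 4, β (DihedralGroup.sr 0) = DihedralGroup.sr j := by
    rcases hg : β (DihedralGroup.sr 0) with i | i
    · exfalso
      rw [← hr i] at hg
      have := β.injective hg
      cases this
    · exact ⟨i, rfl⟩
  have hsr : ∀ i : ZMod 4, β (DihedralGroup.sr i) = DihedralGroup.sr (j + i) := by
    intro i
    have h5 : (DihedralGroup.sr i : DihedralGroup 4) = DihedralGroup.sr 0 * DihedralGroup.r i := by
      rw [DihedralGroup.sr_mul_r, zero_add]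
    rw [h5, map_mul, hj, hr, DihedralGroup.sr_mul_r]
  have hit : ∀ m : ℕ, (⇑β)^[m] (DihedralGroup.sr 0) = DihedralGroup.sr ((m : ZMod 4) * j) := by
    intro m
    induction m with
    | zero => simp
    | succ m ih =>
      rw [Function.iterate_succ_apply', ih, hsr]
      congr 1
      push_cast
      ring
  have hj0 : j = 0 := by
    have h6 := hβn (DihedralGroup.sr 0)
    rw [hit] at h6
    have h7 : ((n : ZMod 4)) * j = 0 := by
      injection h6
    apply L05.zmod4_odd_mul (n : ZMod 4) j _ h7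
    rw [hk]
    push_cast
    exact L05.zmod4_two_mul_add_one (k : ZMod 4)
  intro x
  cases x with
  | r i => exact hr i
  | sr i => rw [hsr, hj0, zero_add]

end Cfsg.Agent.Lib.Helper6.RU75
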