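import Mathlib
import Cfsg.Agent.Lib.Helper6.RU75.L05

/-!
# S3175 farm (architect helper6) — leaf L06: an odd-order automorphism acts trivially on `P ⧸ W ≃* D₈`

RECIPE. `ᾱ := QuotientGroup.congr W W α hW : P ⧸ W ≃* P ⧸ W` (`QuotientGroup.congr_mk : congr .. (mk x) = mk (α x)`).
`β := (e.symm.trans ᾱ).trans e : DihedralGroup 4 ≃* DihedralGroup 4`. By induction `(⇑ᾱ)^[k] (mk x) = mk ((⇑α)^[k] x)` and
`(⇑β)^[k] y = e ((⇑ᾱ)^[k] (e.symm y))`, so `β^[n] = id`; `dihedral4_aut_trivial` (L05) gives `β = id`, hence `ᾱ = id`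
(apply at `e (mk x)`), i.e. `mk (α x) = mk x`, i.e. `x⁻¹ * α x ∈ W` (`QuotientGroup.eq`).
-/

set_option autoImplicit false

namespace Cfsg.Agent.Lib.Helper6.RU75

variable {P : Type*} [Group P] [Finite P]

theorem inv_mul_apply_mem_of_dihedral (W : Subgroup P) [W.Normal]
    (e : P ⧸ W ≃* DihedralGroup 4) (α : P ≃* P) (hW : W.map α.toMonoidHom = W)
    (n : ℕ) (hn : Odd n) (hαn : ∀ x : P, (⇑α)^[n] x = x) :
    ∀ x : P, x⁻¹ * α x ∈ W := by
  let a : P ⧸ W ≃* P ⧸ W := QuotientGroup.congr W W α hW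
  have hamk : ∀ x : P, a (x : P ⧸ W) = ((α x : P) : P ⧸ W) := fun x =>
    QuotientGroup.congr_mk W W α hW x
  have hait : ∀ (k : ℕ) (x : P), (⇑a)^[k] (x : P ⧸ W) = (((⇑α)^[k] x : P) : P ⧸ W) := by
    intro k
    induction k with
    | zero => intro x; rfl
    | succ k ih =>
      intro x
      rw [Function.iterate_succ_apply', Function.iterate_succ_apply', ih, hamk]
  let β : DihedralGroup 4 ≃* DihedralGroup 4 := (e.symm.trans a).trans e
  have hβit : ∀ (k : ℕ) (y : DihedralGroup 4), (⇑β)^[k] y = e ((⇑a)^[k] (e.symm y)) := by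
    intro k
    induction k with
    | zero => intro y; simp
    | succ k ih =>
      intro y
      rw [Function.iterate_succ_apply', Function.iterate_succ_apply', ih]
      show e (a (e.symm (e ((⇑a)^[k] (e.symm y))))) = _
      rw [MulEquiv.symm_apply_apply]
  have hβn : ∀ y : DihedralGroup 4, (⇑β)^[n] y = y := by
    intro y
    rw [hβit]
    obtain ⟨x, hx⟩ := QuotientGroup.mk_surjective (s := W) (e.symm y)
    rw [← hx, hait, hαn, hx, MulEquiv.apply_symm_apply]
  have hβ := dihedral4_aut_trivial β n hn hβn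
  intro x
  have h1 := hβ (e (x : P ⧸ W))
  have h2 : e (a (e.symm (e (x : P ⧸ W)))) = e (x : P ⧸ W) := h1
  rw [MulEquiv.symm_apply_apply, hamk] at h2
  have h3 : ((α x : P) : P ⧸ W) = (x : P ⧸ W) := e.injective h2
  exact QuotientGroup.eq.mp h3.symm

end Cfsg.Agent.Lib.Helper6.RU75
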