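import Mathlib
import Cfsg.Agent.Lib.Helper6.RU75.L01
import Cfsg.Agent.Lib.Helper1.Nilpotent
import Cfsg.Agent.Lib.Helper18.SUCorC6A

/-!
# S3175 farm (architect helper6) — leaf L07 (LONGEST; spares welcome): the module lemma

`Q` a finite 2-group, `M ⊴ Q` abelian, `β` an automorphism with `β^[n] = id` (`n` odd), `β M ⊆ M`, `β` trivial on `Q/M`
(`x⁻¹ * β x ∈ M` for all `x`), and `β` fixes `M ∩ Z(Q)` pointwise. Then `β` fixes `M` pointwise.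

RECIPE. `κ m := m⁻¹ * β m` maps `M → M` and is multiplicative on `M` (`M` abelian: `(m m')⁻¹ β(m m') = m'⁻¹ m⁻¹ β m β m'`, commute inside `M`).
Let `U := {κ m | m ∈ M}` as a subgroup of `Q` (e.g. build `κ : ↥M →* ↥M` with `MonoidHom.mk'`, then `U := κ.range.map M.subtype`; or
`Subgroup.closure` and show every element is some `κ m`). `U ≤ M`.
`U` is normal in `Q`: for `q : Q`, `m ∈ M`: `β q = q * u` with `u := q⁻¹ * β q ∈ M`; then
`β (q * m * q⁻¹) = q u (β m) u⁻¹ q⁻¹ = q (β m) q⁻¹` (`u, β m ∈ M` commute), so `q * κ m * q⁻¹ = κ (q * m * q⁻¹)` and `q * m * q⁻¹ ∈ M` (`M` normal).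
If `U ≠ ⊥` then `U ⊓ Subgroup.center Q ≠ ⊥`: `Cfsg.Agent.Lib.Helper18...normal_inf_center_ne_bot` (SUCorC6A.lean l.153) or
`Cfsg.Agent.Lib.Helper1...inf_center_ne_bot_of_normal` (Nilpotent.lean l.21; `hQ.isNilpotent`). Take `1 ≠ u = κ m₀ ∈ U ⊓ center Q`. By `hβZ`
(`u ∈ M ⊓ center Q`) `β u = u`, hence `β` fixes `Subgroup.zpowers u` pointwise (`map_zpow`); `m₀⁻¹ * β m₀ = u ∈ zpowers u`; `stab_step` (L01)
with `A := zpowers u`, `b := m₀` gives `β m₀ = m₀`, i.e. `u = 1`: contradiction. So `U = ⊥`, i.e. `κ m = 1`, i.e. `β m = m` for all `m ∈ M`.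
-/

set_option autoImplicit false

namespace Cfsg.Agent.Lib.Helper6.RU75

theorem fix_abelian_normal {Q : Type*} [Group Q] [Finite Q] (hQ : IsPGroup 2 Q) (M : Subgroup Q) [M.Normal]
    (hMab : ∀ x ∈ M, ∀ y ∈ M, x * y = y * x) (β : Q ≃* Q) (n : ℕ) (hn : Odd n)
    (hβn : ∀ x : Q, (⇑β)^[n] x = x) (hβM : ∀ m ∈ M, β m ∈ M) (hβQ : ∀ x : Q, x⁻¹ * β x ∈ M)
    (hβZ : ∀ m ∈ M ⊓ Subgroup.center Q, β m = m) : ∀ m ∈ M, β m = m := by
  classical
  have : Fact (Nat.Prime 2) := ⟨Nat.prime_two⟩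
  -- κ m = m⁻¹ * β m
  have hκM : ∀ m ∈ M, m⁻¹ * β m ∈ M := fun m hm => M.mul_mem (M.inv_mem hm) (hβM m hm)
  -- the subgroup U of all κ m
  let U : Subgroup Q :=
    { carrier := {u | ∃ m ∈ M, u = m⁻¹ * β m}
      one_mem' := ⟨1, M.one_mem, by simp⟩
      mul_mem' := by
        rintro a b ⟨m, hm, rfl⟩ ⟨m', hm', rfl⟩
        refine ⟨m * m', M.mul_mem hm hm', ?_⟩
        have hc := hMab (m'⁻¹) (M.inv_mem hm') (m⁻¹ * β m) (hκM m hm)
        calc m⁻¹ * β m * (m'⁻¹ * β m') = ((m⁻¹ * β m) * m'⁻¹) * β m' := by group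
          _ = (m'⁻¹ * (m⁻¹ * β m)) * β m' := by rw [hc]
          _ = (m * m')⁻¹ * β (m * m') := by rw [map_mul]; group
      inv_mem' := by
        rintro a ⟨m, hm, rfl⟩
        refine ⟨m⁻¹, M.inv_mem hm, ?_⟩
        have hc := hMab m hm ((β m)⁻¹) (M.inv_mem (hβM m hm))
        calc (m⁻¹ * β m)⁻¹ = (β m)⁻¹ * m := by group
          _ = m * (β m)⁻¹ := hc.symm
          _ = m⁻¹⁻¹ * β m⁻¹ := by rw [map_inv]; group }
  have hUmem : ∀ u : Q, u ∈ U ↔ ∃ m ∈ M, u = m⁻¹ * β m := fun u => Iff.rfl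
  -- U is normal
  have hUn : U.Normal := by
    constructor
    rintro a ⟨m, hm, rfl⟩ q
    refine ⟨q * m * q⁻¹, ‹M.Normal›.conj_mem m hm q, ?_⟩
    have hu : q⁻¹ * β q ∈ M := hβQ q
    have hbq : β q = q * (q⁻¹ * β q) := by group
    have hc := hMab (q⁻¹ * β q) hu (β m) (hβM m hm)
    have h1 : β (q * m * q⁻¹) = q * β m * q⁻¹ := by
      rw [map_mul, map_mul, map_inv]
      calc β q * β m * (β q)⁻¹ = (q * (q⁻¹ * β q)) * β m * (q * (q⁻¹ * β q))⁻¹ := by rw [← hbq]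
        _ = q * ((q⁻¹ * β q) * β m) * (q⁻¹ * β q)⁻¹ * q⁻¹ := by group
        _ = q * (β m * (q⁻¹ * β q)) * (q⁻¹ * β q)⁻¹ * q⁻¹ := by rw [hc]
        _ = q * β m * q⁻¹ := by group
    rw [h1]; group
  by_contra hne
  simp only [not_forall] at hne
  obtain ⟨m1, hm1, hm1ne⟩ := hne
  have hUne : U ≠ ⊥ := by
    intro hU
    have : m1⁻¹ * β m1 ∈ U := ⟨m1, hm1, rfl⟩
    rw [hU, Subgroup.mem_bot] at this
    apply hm1ne
    calc β m1 = m1 * (m1⁻¹ * β m1) := by group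
      _ = m1 := by rw [this, mul_one]
  obtain ⟨x, hxU, hxZ, hx1⟩ := Cfsg.Agent.Lib.Helper18.SUCorC6.normal_inf_center_ne_bot hQ U hUne
  obtain ⟨m0, hm0, hxm0⟩ := hxU
  have hxM : x ∈ M := by rw [hxm0]; exact hκM m0 hm0
  have hβx : β x = x := hβZ x ⟨hxM, hxZ⟩
  have hA : ∀ a ∈ Subgroup.zpowers x, β a = a := by
    rintro a ⟨k, rfl⟩
    show β (x ^ k) = x ^ k
    rw [map_zpow, hβx]
  have hb : m0⁻¹ * β m0 ∈ Subgroup.zpowers x := by
    rw [← hxm0]; exact Subgroup.mem_zpowers x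
  have h0 : β m0 = m0 := stab_step hQ β n hn hβn (Subgroup.zpowers x) hA m0 hb
  apply hx1
  rw [hxm0, h0]; group

end Cfsg.Agent.Lib.Helper6.RU75
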