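import Mathlib

/-!
# S3175 farm (architect helper6) — leaf L08: automorphisms preserve `C_P(Z_k(P))`

RECIPE. `Z := Subgroup.upperCentralSeries P k` is characteristic (`inferInstance`), so `Z.map α.toMonoidHom = Z`
(`Subgroup.characteristic_iff_map_eq.mp inferInstance α`). Show `x ∈ centralizer Z ↔ α x ∈ centralizer Z`: if `x` commutes with all `z ∈ Z`,
then `α x` commutes with all `α z`, and every element of `Z` is some `α z` with `z ∈ Z`. Use `Subgroup.map_equiv_eq_comap_symm` /
`le_antisymm` with `Subgroup.map_le_iff_le_comap`; for `≥` apply the `≤` direction to `α.symm`.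
-/

set_option autoImplicit false

namespace Cfsg.Agent.Lib.Helper6.RU75

variable {P : Type*} [Group P]

theorem map_centralizer_upperCentralSeries (α : P ≃* P) (k : ℕ) :
    (Subgroup.centralizer ((Subgroup.upperCentralSeries P k : Subgroup P) : Set P)).map α.toMonoidHom =
      Subgroup.centralizer ((Subgroup.upperCentralSeries P k : Subgroup P) : Set P) := by
  have hZ : ∀ β : P ≃* P, (Subgroup.upperCentralSeries P k).map β.toMonoidHom =
      Subgroup.upperCentralSeries P k :=
    fun β => Subgroup.characteristic_iff_map_eq.mp inferInstance β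
  have key : ∀ β : P ≃* P,
      (Subgroup.centralizer ((Subgroup.upperCentralSeries P k : Subgroup P) : Set P)).map β.toMonoidHom ≤
        Subgroup.centralizer ((Subgroup.upperCentralSeries P k : Subgroup P) : Set P) := by
    intro β
    rintro _ ⟨x, hx, rfl⟩
    rw [Subgroup.mem_centralizer_iff]
    intro z hz
    have hz' : z ∈ (Subgroup.upperCentralSeries P k).map β.toMonoidHom := by
      rw [hZ β]; exact hz
    obtain ⟨z0, hz0, rfl⟩ := hz'
    have h1 := (Subgroup.mem_centralizer_iff.1 hx) z0 hz0
    show β z0 * β x = β x * β z0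
    rw [← map_mul, h1, map_mul]
  refine le_antisymm (key α) ?_
  intro x hx
  have h1 : α.symm x ∈ Subgroup.centralizer ((Subgroup.upperCentralSeries P k : Subgroup P) : Set P) :=
    key α.symm (Subgroup.mem_map.2 ⟨x, hx, rfl⟩)
  exact Subgroup.mem_map.2 ⟨α.symm x, h1, by simp⟩

end Cfsg.Agent.Lib.Helper6.RU75
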