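import Mathlib
import Cfsg.Agent.Lib.Helper6.RU75.L07

/-!
# S3175 farm (architect helper6) — leaf L09: an odd-order automorphism acts trivially on `W / Z_3`

Apply the module lemma `fix_abelian_normal` (L07) in `Q := P ⧸ Z_3`.

RECIPE. `Z3 := Subgroup.upperCentralSeries P 3` (normal: `inferInstance`; characteristic, so `hZα : Z3.map α.toMonoidHom = Z3` by
`Subgroup.characteristic_iff_map_eq`). `Q := P ⧸ Z3` is a finite 2-group (`hP.to_quotient Z3`). `β := QuotientGroup.congr Z3 Z3 α hZα`,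
`β (mk x) = mk (α x)` (`QuotientGroup.congr_mk`), so `(⇑β)^[k] (mk x) = mk ((⇑α)^[k] x)` by induction, giving `hβn` (use `QuotientGroup.induction_on`).
`M := W.map (QuotientGroup.mk' Z3)` is normal (`Subgroup.Normal.map _ _ (QuotientGroup.mk'_surjective _)`), abelian
(`mk x * mk y = mk y * mk x ↔ ⁅x,y⁆`-type element `∈ Z3`: from `hWab` and `QuotientGroup.eq`; mind `x * y = y * x * ⁅x⁻¹,y⁻¹⁆`-style identities —
easiest: `(y * x)⁻¹ * (x * y) = ⁅x⁻¹, y⁻¹⁆`… or use that `⁅x⁻¹, y⁻¹⁆ ∈ Z3` by `hWab` applied to `x⁻¹, y⁻¹ ∈ W`).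
`hβM` from `hWα`; `hβQ` from `hPW`. `hβZ`: if `mk w` (`w ∈ W`) is central in `P ⧸ Z3` then `∀ y, ⁅w, y⁆ ∈ Z3`, i.e. `w ∈ Z_4`
(`Subgroup.mem_upperCentralSeries_succ_iff`), so `α w = w` by `hfix4`, so `β (mk w) = mk w`.
Conclusion `∀ m ∈ M, β m = m` at `m = mk w` gives `mk (α w) = mk w`, i.e. `w⁻¹ * α w ∈ Z3` (`QuotientGroup.eq`).
-/

set_option autoImplicit false

namespace Cfsg.Agent.Lib.Helper6.RU75

open scoped commutatorElement

variable {P : Type*} [Group P] [Finite P]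

theorem inv_mul_apply_mem_Z3 (hP : IsPGroup 2 P) (W : Subgroup P) [W.Normal]
    (hWab : ∀ x ∈ W, ∀ y ∈ W, ⁅x, y⁆ ∈ Subgroup.upperCentralSeries P 3)
    (α : P ≃* P) (n : ℕ) (hn : Odd n) (hαn : ∀ x : P, (⇑α)^[n] x = x)
    (hWα : ∀ w ∈ W, α w ∈ W) (hPW : ∀ x : P, x⁻¹ * α x ∈ W)
    (hfix4 : ∀ x ∈ Subgroup.upperCentralSeries P 4, α x = x) :
    ∀ w ∈ W, w⁻¹ * α w ∈ Subgroup.upperCentralSeries P 3 := by
  set Z3 : Subgroup P := Subgroup.upperCentralSeries P 3 with hZ3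
  have hZα : Z3.map α.toMonoidHom = Z3 :=
    Subgroup.characteristic_iff_map_eq.mp inferInstance α
  let β : P ⧸ Z3 ≃* P ⧸ Z3 := QuotientGroup.congr Z3 Z3 α hZα
  have hβmk : ∀ x : P, β (x : P ⧸ Z3) = ((α x : P) : P ⧸ Z3) := fun x =>
    QuotientGroup.congr_mk Z3 Z3 α hZα x
  have hβit : ∀ (k : ℕ) (x : P), (⇑β)^[k] (x : P ⧸ Z3) = (((⇑α)^[k] x : P) : P ⧸ Z3) := by
    intro k
    induction k with
    | zero => intro x; rfl
    | succ k ih =>
      intro x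
      rw [Function.iterate_succ_apply', Function.iterate_succ_apply', ih, hβmk]
  have hQ : IsPGroup 2 (P ⧸ Z3) := hP.to_quotient Z3
  set M : Subgroup (P ⧸ Z3) := W.map (QuotientGroup.mk' Z3) with hM
  haveI : M.Normal := Subgroup.Normal.map inferInstance _ (QuotientGroup.mk'_surjective Z3)
  have hMab : ∀ x ∈ M, ∀ y ∈ M, x * y = y * x := by
    rintro _ ⟨x, hx, rfl⟩ _ ⟨y, hy, rfl⟩
    simp only [QuotientGroup.mk'_apply]
    rw [← QuotientGroup.mk_mul, ← QuotientGroup.mk_mul, eq_comm, QuotientGroup.eq]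
    have h1 : (y * x)⁻¹ * (x * y) = ⁅x⁻¹, y⁻¹⁆ := by
      rw [commutatorElement_def]; group
    rw [h1]
    exact hWab _ (W.inv_mem hx) _ (W.inv_mem hy)
  have hβn : ∀ x : P ⧸ Z3, (⇑β)^[n] x = x := by
    intro x
    induction x using QuotientGroup.induction_on with
    | H x => rw [hβit, hαn]
  have hβM : ∀ m ∈ M, β m ∈ M := by
    rintro _ ⟨w, hw, rfl⟩
    simp only [QuotientGroup.mk'_apply]
    rw [hβmk]
    exact ⟨α w, hWα w hw, rfl⟩
  have hβQ : ∀ x : P ⧸ Z3, x⁻¹ * β x ∈ M := by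
    intro x
    induction x using QuotientGroup.induction_on with
    | H x =>
      rw [hβmk, ← QuotientGroup.mk_inv, ← QuotientGroup.mk_mul]
      exact ⟨x⁻¹ * α x, hPW x, rfl⟩
  have hβZ : ∀ m ∈ M ⊓ Subgroup.center (P ⧸ Z3), β m = m := by
    rintro m ⟨⟨w, hw, rfl⟩, hc⟩
    simp only [QuotientGroup.mk'_apply] at hc ⊢
    have hw4 : w ∈ Subgroup.upperCentralSeries P 4 := by
      rw [show (4 : ℕ) = 3 + 1 from rfl, Subgroup.mem_upperCentralSeries_succ_iff]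
      intro y
      have h2 := Subgroup.mem_center_iff.mp hc (y : P ⧸ Z3)
      -- h2 : y * w = w * y in quotient
      rw [← QuotientGroup.mk_mul, ← QuotientGroup.mk_mul, QuotientGroup.eq] at h2
      -- h2 : (y * w)⁻¹ * (w * y) ∈ Z3
      have h3 : ⁅w, y⁆ = (y * w) * ((y * w)⁻¹ * (w * y)) * (y * w)⁻¹ := by
        rw [commutatorElement_def]; group
      rw [h3]
      exact (inferInstance : Z3.Normal).conj_mem _ h2 _
    rw [hβmk, hfix4 w hw4]
  have key := fix_abelian_normal hQ M hMab β n hn hβn hβM hβQ hβZ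
  intro w hw
  have h1 := key ((w : P) : P ⧸ Z3) ⟨w, hw, rfl⟩
  rw [hβmk] at h1
  have h2 : ((w : P) : P ⧸ Z3) = ((α w : P) : P ⧸ Z3) := h1.symm
  exact QuotientGroup.eq.mp h2

end Cfsg.Agent.Lib.Helper6.RU75
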