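import Mathlib

/-!
# S3175 farm (architect helper6) — leaf L10: small translations of the S3174 conclusions (three statements)

(1) `commutator_mem_of_map_eq`: for `x y ∈ W`, `⁅(⟨x,_⟩ : ↥W), ⟨y,_⟩⁆ ∈ commutator ↥W` (`Subgroup.commutator_mem_commutator` with `⊤ ⊤`,
`commutator_def`), and its image under `W.subtype` is `⁅x, y⁆`.
(2) `sq_mem_of_map_eq`: `(mk ⟨x,_⟩ : ↥W ⧸ commutator ↥W) ^ 2 = 1` gives `⟨x,_⟩ ^ 2 ∈ commutator ↥W` (`QuotientGroup.eq_one_iff`), map by `W.subtype`.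
(3) `index_eq_eight`: `W.index = Nat.card (P ⧸ W)` (`Subgroup.index_eq_card`) `= Nat.card (DihedralGroup 4) = 8` (`Nat.card_congr e.toEquiv`,
`DihedralGroup.nat_card`).
-/

set_option autoImplicit false

namespace Cfsg.Agent.Lib.Helper6.RU75

open scoped commutatorElement

variable {P : Type*} [Group P]

theorem commutator_mem_of_map_eq (W Z : Subgroup P) (h : (commutator ↥W).map W.subtype = Z) :
    ∀ x ∈ W, ∀ y ∈ W, ⁅x, y⁆ ∈ Z := by
  intro x hx y hy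
  rw [← h]
  refine Subgroup.mem_map.2 ⟨⁅(⟨x, hx⟩ : ↥W), ⟨y, hy⟩⁆, ?_, ?_⟩
  · rw [commutator_def]
    exact Subgroup.commutator_mem_commutator (Subgroup.mem_top _) (Subgroup.mem_top _)
  · simp [commutatorElement_def]

theorem sq_mem_of_map_eq (W Z : Subgroup P) (h : (commutator ↥W).map W.subtype = Z)
    (hsq : ∀ x : ↥W ⧸ commutator ↥W, x ^ 2 = 1) : ∀ x ∈ W, x ^ 2 ∈ Z := by
  intro x hx
  rw [← h]
  have h1 := hsq (QuotientGroup.mk (⟨x, hx⟩ : ↥W))
  rw [← QuotientGroup.mk_pow, QuotientGroup.eq_one_iff] at h1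
  exact Subgroup.mem_map.2 ⟨(⟨x, hx⟩ : ↥W) ^ 2, h1, by simp⟩

theorem index_eq_eight (W : Subgroup P) [W.Normal] (e : P ⧸ W ≃* DihedralGroup 4) : W.index = 8 := by
  rw [Subgroup.index_eq_card, Nat.card_congr e.toEquiv, DihedralGroup.nat_card]

end Cfsg.Agent.Lib.Helper6.RU75
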