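import Mathlib
import Cfsg.Agent.Lib.Helper1.Frattini

/-!
# S3175 farm (architect helper6) — leaf L11: conjugation by a normalizing element as an automorphism of `↥T` (two statements)

RECIPE (1). `c ∈ normalizer T` gives `T.map (MulAut.conj c).toMonoidHom = T` (`Subgroup.mem_normalizer_iff` / `Subgroup.map_equiv_normalizer_eq`-like;
or define the equivalence by hand: `toFun t := ⟨c * t * c⁻¹, (Subgroup.mem_normalizer_iff.mp hc t).mp t.2⟩`, `invFun t := ⟨c⁻¹ * t * c, _⟩`
(use `Subgroup.mem_normalizer_iff'` or apply the `iff` to `c⁻¹ * t * c`), `map_mul'` by `Subtype.ext; group`).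
RECIPE (2). Induction on `k` with `Function.iterate_succ_apply'`, `pow_succ'`, `mul_inv_rev`, `group`.
-/

set_option autoImplicit false

namespace Cfsg.Agent.Lib.Helper6.RU75

variable {G : Type*} [Group G]

theorem exists_conjAut (T : Subgroup G) (c : G) (hc : c ∈ Subgroup.normalizer (T : Set G)) :
    ∃ α : ↥T ≃* ↥T, ∀ t : ↥T, ((α t : ↥T) : G) = c * (t : G) * c⁻¹ :=
  ⟨Cfsg.Agent.Lib.Helper1.conjNormalizer T c hc, fun _ => rfl⟩

theorem conjAut_iterate (T : Subgroup G) (c : G) (α : ↥T ≃* ↥T)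
    (hα : ∀ t : ↥T, ((α t : ↥T) : G) = c * (t : G) * c⁻¹) (k : ℕ) (t : ↥T) :
    ((((⇑α)^[k] t : ↥T)) : G) = c ^ k * (t : G) * (c ^ k)⁻¹ := by
  induction k with
  | zero => simp
  | succ k ih =>
    rw [Function.iterate_succ_apply', hα, ih, pow_succ']
    group

end Cfsg.Agent.Lib.Helper6.RU75
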