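import Mathlib
import Cfsg.Prelude.Def_Transfer
import Cfsg.Agent.Lib.Helper1.Basic

/-!
# S3175 farm (architect helper6) — leaf L12: Schur–Zassenhaus in `N_G(T)` (spares welcome)

If every odd-order element of `N := N_G(T)` centralizes the Sylow 2-subgroup `T`, then `N` has a normal 2-complement.
`Cfsg.HasNormalPComplement 2 N := ∃ (P : Sylow 2 N) (K : Subgroup N), K.Normal ∧ K.IsComplement' (P : Subgroup N)`.

RECIPE. `N := Subgroup.normalizer (T : Set G)`, `TN : Subgroup ↥N := (T : Subgroup G).subgroupOf N` is normal in `↥N`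
(`Subgroup.normal_in_normalizer` / `Subgroup.normal_subgroupOf_normalizer`-style instance — check name) and `P := T.subtype Subgroup.le_normalizer : Sylow 2 ↥N`
has `(P : Subgroup ↥N) = TN` (`Sylow.coe_subtype`). `Nat.card TN` is a power of 2 and `TN.index` is odd (`P` Sylow:
`Sylow.card_coprime_index P`), so `Subgroup.exists_right_complement'_of_coprime` gives `K` with `TN.IsComplement' K`; use `.symm`.
Every `k ∈ K` has odd order (`orderOf k ∣ Nat.card K = TN.index`, odd), `orderOf (k : G) = orderOf k` (`Subgroup.orderOf_coe`), so by `h` `k`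
commutes with every element of `TN`. `K` normal: any `x : ↥N` is `t * k'` with `t ∈ TN`, `k' ∈ K` (`Subgroup.IsComplement'`:
`Subgroup.isComplement'_def`, `Subgroup.IsComplement.existsUnique`/`.mul_eq`-style surjectivity of `(t,k) ↦ t * k`), then
`x * k * x⁻¹ = t * (k' * k * k'⁻¹) * t⁻¹ = k' * k * k'⁻¹ ∈ K` as `t` commutes with elements of `K`.
-/

set_option autoImplicit false

namespace Cfsg.Agent.Lib.Helper6.RU75

variable {G : Type*} [Group G] [Finite G]

theorem hasNormalPComplement_normalizer (T : Sylow 2 G)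
    (h : ∀ c ∈ Subgroup.normalizer ((T : Subgroup G) : Set G), Odd (orderOf c) →
      ∀ t ∈ (T : Subgroup G), c * t = t * c) :
    Cfsg.HasNormalPComplement 2 ↥(Subgroup.normalizer ((T : Subgroup G) : Set G)) := by
  classical
  have : Fact (Nat.Prime 2) := ⟨Nat.prime_two⟩
  set N : Subgroup G := Subgroup.normalizer ((T : Subgroup G) : Set G) with hN
  set TN : Subgroup ↥N := (T : Subgroup G).subgroupOf N with hTN
  have hnorm : TN.Normal := Subgroup.normal_in_normalizer
  set P : Sylow 2 ↥N := T.subtype Subgroup.le_normalizer with hP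
  have hPcoe : (P : Subgroup ↥N) = TN := Sylow.coe_subtype _ _
  have hcop : (Nat.card TN).Coprime TN.index := by
    rw [← hPcoe]; exact Sylow.card_coprime_index P
  obtain ⟨K, hK⟩ := Subgroup.exists_right_complement'_of_coprime hcop
  have hKcard : Nat.card K = TN.index := (hK.symm.index_eq_card).symm
  have hodd : Odd (Nat.card K) := by
    rw [hKcard, ← hPcoe, ← Nat.not_even_iff_odd, even_iff_two_dvd]
    exact Sylow.not_dvd_index P
  -- elements of `K` commute with elements of `TN`
  have hcomm : ∀ k ∈ K, ∀ t ∈ TN, k * t = t * k := by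
    intro k hk t ht
    have hko : Odd (orderOf (k : G)) := by
      rw [Subgroup.orderOf_coe]
      have hd : orderOf (⟨k, hk⟩ : K) ∣ Nat.card K := orderOf_dvd_natCard _
      have : orderOf (⟨k, hk⟩ : K) = orderOf k := by
        rw [← Subgroup.orderOf_coe]
      rw [← this]
      exact Odd.of_dvd_nat hodd hd
    have ht' : (t : G) ∈ (T : Subgroup G) := Subgroup.mem_subgroupOf.mp ht
    exact Subtype.ext (h (k : G) k.2 hko (t : G) ht')
  have hKn : K.Normal := by
    constructor
    intro k hk x
    obtain ⟨t, ht, k', hk', rfl⟩ := Cfsg.Agent.Lib.Helper1.IsComplement'.exists_mul_eq hK x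
    have h1 : k' * k * k'⁻¹ ∈ K := K.mul_mem (K.mul_mem hk' hk) (K.inv_mem hk')
    have h2 := hcomm _ h1 t ht
    have h3 : t * k' * k * (t * k')⁻¹ = t * (k' * k * k'⁻¹) * t⁻¹ := by group
    rw [h3, ← h2]
    simpa using h1
  refine ⟨P, K, hKn, ?_⟩
  rw [hPcoe]
  exact hK.symm

end Cfsg.Agent.Lib.Helper6.RU75
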