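import Mathlib
import Cfsg.Agent.Lib.Helper1.Frattini

/-!
# S3175 farm (architect helper6) — leaf L13 (spares welcome): `Φ(U) ≤ Z` for a copy `U` of `W` inside `P`

`W/Z` (more precisely `W/(W ∩ Z)`) is elementary abelian, `|P : W| ≤ 8`, and every subgroup of `U` of index `≤ 16` contains `Φ(U)`.
Then `Φ(U) ≤ Z` (as subgroups of `P`).

RECIPE. `X := U ⊓ W`. `X' := X.subgroupOf U : Subgroup ↥U` has index `= X.relIndex U = W.relIndex U ≤ W.index ≤ 8`
(`Subgroup.inf_relIndex_right`/`Subgroup.relIndex_inf_le`/`Subgroup.relIndex_le_index`-style lemmas — search `relIndex_le`), so `frattini ↥U ≤ X'` by `hd`.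
Work in the finite 2-group `↥X` (`hP.to_subgroup X`). `N := (Z ⊓ X).subgroupOf X : Subgroup ↥X` contains `commutator ↥X` and all squares
(from `hWel`, `hWsq`, since `X ≤ W`; `commutator ↥X = Subgroup.closure {⁅a,b⁆}` → `Subgroup.commutator_le`-type lemma: enough `∀ a b : ↥X, ⁅a,b⁆ ∈ N`),
so `Cfsg.Agent.Lib.Helper1.frattini_le_of_commutator_le_of_pow_mem` (check namespace in `Cfsg/Agent/Lib/Helper1/Frattini.lean`, l.200, `p := 2`) gives `frattini ↥X ≤ N`.
Next, `F := ((frattini ↥U).map U.subtype).subgroupOf X ≤ frattini ↥X` by `le_frattini_iff` (same file, l.119): a coatom `M` of `Subgroup ↥X` has index 2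
(`IsPGroup.index_of_isCoatom`), so `(M.map X.subtype).subgroupOf U` has index `2 * X'.index ≤ 16` in `↥U`
(`Subgroup.relIndex_mul_relIndex`), so it contains `frattini ↥U` by `hd`; unfold memberships. Hence every element of `(frattini ↥U).map U.subtype`
lies in `X` and then in `Z ⊓ X ≤ Z`.
-/

set_option autoImplicit false

namespace Cfsg.Agent.Lib.Helper6.RU75

open scoped commutatorElement

variable {P : Type*} [Group P] [Finite P]

theorem map_frattini_le (hP : IsPGroup 2 P) (W U Z : Subgroup P)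
    (hWel : ∀ x ∈ W, ∀ y ∈ W, ⁅x, y⁆ ∈ Z) (hWsq : ∀ x ∈ W, x ^ 2 ∈ Z) (hidx : W.index ≤ 8)
    (hd : ∀ V : Subgroup ↥U, V.index ≤ 16 → frattini ↥U ≤ V) :
    (frattini ↥U).map U.subtype ≤ Z := by
  classical
  have : Fact (Nat.Prime 2) := ⟨Nat.prime_two⟩
  have hWidx0 : W.index ≠ 0 := Subgroup.index_ne_zero_of_finite
  have hWU : W.relIndex U ≤ 8 := by
    have h1 : W.relIndex U ≤ W.relIndex ⊤ :=
      Subgroup.relIndex_le_of_le_right le_top (by rw [Subgroup.relIndex_top_right]; exact hWidx0)
    rw [Subgroup.relIndex_top_right] at h1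
    exact h1.trans hidx
  set X : Subgroup P := U ⊓ W with hX
  have hXU : X ≤ U := inf_le_left
  have hXW : X ≤ W := inf_le_right
  have hXrel : X.relIndex U = W.relIndex U := by rw [hX, Subgroup.inf_relIndex_left]
  have hXp : IsPGroup 2 ↥X := hP.to_subgroup X
  -- step A: the Frattini subgroup of `U` lies in `W`
  have hA : frattini ↥U ≤ W.subgroupOf U := by
    apply hd
    show W.relIndex U ≤ 16
    omega
  -- the Frattini subgroup of `X` lies in `Z`
  have hB : frattini ↥X ≤ Z.subgroupOf X := by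
    apply Cfsg.Agent.Lib.Helper1.frattini_le_of_commutator_le_of_pow_mem (p := 2)
    · rw [commutator_def, Subgroup.commutator_le]
      intro a _ b _
      rw [Subgroup.mem_subgroupOf]
      show ⁅(a : P), (b : P)⁆ ∈ Z
      exact hWel _ (hXW a.2) _ (hXW b.2)
    · intro x
      rw [Subgroup.mem_subgroupOf]
      show (x : P) ^ 2 ∈ Z
      exact hWsq _ (hXW x.2)
  rintro _ ⟨f, hf, rfl⟩
  have hfW : (f : P) ∈ W := Subgroup.mem_subgroupOf.mp (hA hf)
  have hfX : (f : P) ∈ X := ⟨f.2, hfW⟩
  have hfr : (⟨(f : P), hfX⟩ : ↥X) ∈ frattini ↥X := by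
    have hle : Subgroup.closure {(⟨(f : P), hfX⟩ : ↥X)} ≤ frattini ↥X := by
      rw [Cfsg.Agent.Lib.Helper1.le_frattini_iff]
      intro M hM
      rw [Subgroup.closure_le, Set.singleton_subset_iff]
      have hMidx : M.index = 2 := Cfsg.Agent.Lib.Helper1.IsPGroup.index_of_isCoatom hXp hM
      have hMX : M.map X.subtype ≤ X := Subgroup.map_subtype_le M
      have h1 : (M.map X.subtype).relIndex X = 2 := by
        rw [Subgroup.relIndex, Subgroup.subgroupOf,
          Subgroup.comap_map_eq_self_of_injective X.subtype_injective]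
        exact hMidx
      have h2 := Subgroup.relIndex_mul_relIndex (M.map X.subtype) X U hMX hXU
      have h3 : ((M.map X.subtype).subgroupOf U).index ≤ 16 := by
        show (M.map X.subtype).relIndex U ≤ 16
        rw [← h2, h1, hXrel]
        omega
      have h4 := hd _ h3 hf
      rw [Subgroup.mem_subgroupOf] at h4
      obtain ⟨m, hm, hmf⟩ := h4
      have : m = ⟨(f : P), hfX⟩ := Subtype.ext hmf
      rw [← this]
      exact hm
    exact hle (Subgroup.subset_closure rfl)
  exact Subgroup.mem_subgroupOf.mp (hB hfr)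

end Cfsg.Agent.Lib.Helper6.RU75
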