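import Mathlib
import Cfsg.Agent.Lib.Helper6.RU75.L13

/-!
# S3175 farm (architect helper6) — leaf L14: `U = W`

RECIPE. `F := (frattini ↥U).map U.subtype ≤ Z` (L13) and `Nat.card Z ≤ Nat.card (frattini ↥U) = Nat.card F`
(`Subgroup.card_map_of_injective`/`Nat.card_congr (Subgroup.equivMapOfInjective ..)`, `U.subtype_injective`), so `F = Z`
(`Subgroup.eq_of_le_of_card_ge`). By `hcen` every element of `F = Z` commutes with every element of `U`, so `U ≤ centralizer Z ≤ W` (`hWZ`),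
and `Nat.card W ≤ Nat.card U` gives `U = W` (`Subgroup.eq_of_le_of_card_ge`).
-/

set_option autoImplicit false

namespace Cfsg.Agent.Lib.Helper6.RU75

open scoped commutatorElement

variable {P : Type*} [Group P] [Finite P]

theorem eq_of_frattini_conditions (hP : IsPGroup 2 P) (W U Z : Subgroup P)
    (hWZ : Subgroup.centralizer (Z : Set P) ≤ W)
    (hWel : ∀ x ∈ W, ∀ y ∈ W, ⁅x, y⁆ ∈ Z) (hWsq : ∀ x ∈ W, x ^ 2 ∈ Z) (hidx : W.index ≤ 8)
    (hd : ∀ V : Subgroup ↥U, V.index ≤ 16 → frattini ↥U ≤ V)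
    (hcard : Nat.card ↥Z ≤ Nat.card ↥(frattini ↥U))
    (hcen : ∀ f ∈ frattini ↥U, ∀ u : ↥U, f * u = u * f)
    (hUW : Nat.card ↥W ≤ Nat.card ↥U) : U = W := by
  have hFZ : (frattini ↥U).map U.subtype ≤ Z := map_frattini_le hP W U Z hWel hWsq hidx hd
  have hcardF : Nat.card ↥((frattini ↥U).map U.subtype) = Nat.card ↥(frattini ↥U) :=
    Subgroup.card_map_of_injective U.subtype_injective
  have hFeq : (frattini ↥U).map U.subtype = Z :=
    Subgroup.eq_of_le_of_card_ge hFZ (by rw [hcardF]; exact hcard)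
  have hUc : U ≤ Subgroup.centralizer (Z : Set P) := by
    intro u hu
    rw [Subgroup.mem_centralizer_iff]
    intro z hz
    have hz' : z ∈ (frattini ↥U).map U.subtype := by rw [hFeq]; exact hz
    obtain ⟨f, hf, rfl⟩ := hz'
    have := hcen f hf ⟨u, hu⟩
    exact congrArg Subtype.val this
  exact Subgroup.eq_of_le_of_card_ge (hUc.trans hWZ) hUW

end Cfsg.Agent.Lib.Helper6.RU75
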