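import Mathlib

/-!
# S3175 farm (architect helper6) — leaf L15: transport of the Frattini properties along an isomorphism

RECIPE. `frattini` is preserved by isomorphisms: `(frattini A).map e.toMonoidHom = frattini B` (search Mathlib for `frattini` + `MulEquiv`/`map`;
otherwise: `frattini = Order.radical`, coatoms correspond under `Subgroup.comap e` / `e.mapSubgroup` (an order isomorphism `Subgroup A ≃o Subgroup B`:
`MulEquiv.mapSubgroup`), `OrderIso.map_radical`-style or by hand with `le_antisymm`; see also `Cfsg.Agent.Lib.Helper10...mem_frattini_iff_of_equiv`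
in `Cfsg/Agent/Lib/Helper10/Co2CT.lean` l.31 — you may import it).
(a) for `V : Subgroup B`, `(V.comap e.toMonoidHom).index = V.index` (`Subgroup.index_comap_of_surjective`), apply `hd`, push forward.
(b) centrality transports through `e` (`e.symm`). (c) `Nat.card_congr` of the restricted equivalence.
-/

set_option autoImplicit false

namespace Cfsg.Agent.Lib.Helper6.RU75

theorem transport_frattini_props {A B : Type*} [Group A] [Group B] (e : A ≃* B)
    (hd : ∀ V : Subgroup A, V.index ≤ 16 → frattini A ≤ V)
    (hcen : ∀ f ∈ frattini A, ∀ u : A, f * u = u * f) :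
    (∀ V : Subgroup B, V.index ≤ 16 → frattini B ≤ V) ∧
      (∀ f ∈ frattini B, ∀ u : B, f * u = u * f) ∧
      Nat.card ↥(frattini B) = Nat.card ↥(frattini A) := by
  have key : ∀ x : A, e x ∈ frattini B ↔ x ∈ frattini A := by
    intro x
    constructor
    · intro hx
      have h1 := frattini_le_comap_frattini_of_surjective (φ := e.symm.toMonoidHom)
        e.symm.surjective hx
      rw [Subgroup.mem_comap] at h1
      have h2 : e.symm.toMonoidHom (e x) = x := e.symm_apply_apply x
      rwa [h2] at h1
    · intro hx
      exact frattini_le_comap_frattini_of_surjective (φ := e.toMonoidHom) e.surjective hx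
  refine ⟨?_, ?_, ?_⟩
  · intro V hV f hf
    obtain ⟨a, rfl⟩ := e.surjective f
    have ha : a ∈ frattini A := (key a).1 hf
    have hidx : (V.comap e.toMonoidHom).index ≤ 16 := by
      rw [Subgroup.index_comap_of_surjective V e.surjective]; exact hV
    exact hd _ hidx ha
  · intro f hf u
    obtain ⟨a, rfl⟩ := e.surjective f
    obtain ⟨b, rfl⟩ := e.surjective u
    have ha : a ∈ frattini A := (key a).1 hf
    rw [← map_mul, ← map_mul, hcen a ha b]
  · apply Nat.card_congr
    refine
      { toFun := fun f => ⟨e.symm f.1, (key _).1 (by rw [e.apply_symm_apply]; exact f.2)⟩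
        invFun := fun a => ⟨e a.1, (key _).2 a.2⟩
        left_inv := fun f => by apply Subtype.ext; simp
        right_inv := fun a => by apply Subtype.ext; simp }

end Cfsg.Agent.Lib.Helper6.RU75
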