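import Mathlib

/-!
# S3175 farm (architect helper6) — leaf L16: a `G`-conjugate of `W` inside `T`, as a subgroup of `↥T` isomorphic to `W`

RECIPE. `Wg := (W.map T.subtype).map (MulAut.conj g).toMonoidHom ≤ T`. Put `U := Wg.subgroupOf T`; then `U.map T.subtype = Wg`
(`Subgroup.subgroupOf_map_subtype`, `inf_of_le_left h`). Isomorphisms: `↥W ≃* ↥(W.map T.subtype)` (`Subgroup.equivMapOfInjective _ _ T.subtype_injective`),
`≃* ↥Wg` (`(MulAut.conj g).subgroupMap _` or `Subgroup.equivMapOfInjective` with `(MulAut.conj g).injective`), `≃* ↥U`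
(`(Subgroup.subgroupOfEquivOfLe h).symm`). Compose with `MulEquiv.trans`.
-/

set_option autoImplicit false

namespace Cfsg.Agent.Lib.Helper6.RU75

variable {G : Type*} [Group G]

theorem exists_equiv_conj (T : Subgroup G) (W : Subgroup ↥T) (g : G)
    (h : (W.map T.subtype).map (MulAut.conj g).toMonoidHom ≤ T) :
    ∃ U : Subgroup ↥T, U.map T.subtype = (W.map T.subtype).map (MulAut.conj g).toMonoidHom ∧
      Nonempty (↥W ≃* ↥U) := by
  refine ⟨((W.map T.subtype).map (MulAut.conj g).toMonoidHom).subgroupOf T, ?_, ?_⟩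
  · rw [Subgroup.subgroupOf_map_subtype, inf_of_le_left h]
  · refine ⟨?_⟩
    have e1 : ↥W ≃* ↥(W.map T.subtype) :=
      Subgroup.equivMapOfInjective W T.subtype T.subtype_injective
    have e2 : ↥(W.map T.subtype) ≃* ↥((W.map T.subtype).map (MulAut.conj g).toMonoidHom) :=
      Subgroup.equivMapOfInjective _ _ (MulAut.conj g).injective
    have e3 := (Subgroup.subgroupOfEquivOfLe h).symm
    exact e1.trans (e2.trans e3)

end Cfsg.Agent.Lib.Helper6.RU75
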