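import Mathlib

/-!
# S3175 farm (architect helper6) — leaf L17: `Φ(W)` is central in `W` and has the order of `Z` (two statements)

Here `W = C_P(Z)` and `(frattini ↥W).map W.subtype = Z`.

RECIPE (1). `f ∈ frattini ↥W` ⟹ `(f : P) ∈ Z` (`Subgroup.mem_map_of_mem`, rewrite with `hfr`); `u : ↥W`, `(u : P) ∈ W = centralizer Z`,
so `(f : P) * u = u * f` (`Subgroup.mem_centralizer_iff`), then `Subtype.ext`.
RECIPE (2). `Nat.card ↥((frattini ↥W).map W.subtype) = Nat.card ↥(frattini ↥W)` (`Subgroup.card_map_of_injective W.subtype_injective`? /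
`Nat.card_congr (Subgroup.equivMapOfInjective _ _ W.subtype_injective).toEquiv`), rewrite with `hfr`.
-/

set_option autoImplicit false

namespace Cfsg.Agent.Lib.Helper6.RU75

variable {P : Type*} [Group P]

theorem frattini_central (W Z : Subgroup P) (hW : W = Subgroup.centralizer (Z : Set P))
    (hfr : (frattini ↥W).map W.subtype = Z) : ∀ f ∈ frattini ↥W, ∀ u : ↥W, f * u = u * f := by
  intro f hf u
  have hfZ : ((f : ↥W) : P) ∈ Z := by
    rw [← hfr]; exact Subgroup.mem_map_of_mem _ hf
  have hu : ((u : ↥W) : P) ∈ Subgroup.centralizer (Z : Set P) := hW ▸ u.2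
  have h1 := (Subgroup.mem_centralizer_iff.mp hu) _ hfZ
  apply Subtype.ext
  exact h1

theorem card_frattini_eq (W Z : Subgroup P) (hfr : (frattini ↥W).map W.subtype = Z) :
    Nat.card ↥(frattini ↥W) = Nat.card ↥Z := by
  rw [← hfr]
  exact (Subgroup.card_map_of_injective W.subtype_injective).symm

end Cfsg.Agent.Lib.Helper6.RU75
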