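import Mathlib
import Cfsg.Prelude.Def_Transfer
import Cfsg.Agent.Lib.Helper6.RU75.L01
import Cfsg.Agent.Lib.Helper6.RU75.L02
import Cfsg.Agent.Lib.Helper6.RU75.L03
import Cfsg.Agent.Lib.Helper6.RU75.L04
import Cfsg.Agent.Lib.Helper6.RU75.L05
import Cfsg.Agent.Lib.Helper6.RU75.L06
import Cfsg.Agent.Lib.Helper6.RU75.L07
import Cfsg.Agent.Lib.Helper6.RU75.L08
import Cfsg.Agent.Lib.Helper6.RU75.L09
import Cfsg.Agent.Lib.Helper6.RU75.L10
import Cfsg.Agent.Lib.Helper6.RU75.L11
import Cfsg.Agent.Lib.Helper6.RU75.L12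
import Cfsg.Agent.Lib.Helper6.RU75.L13
import Cfsg.Agent.Lib.Helper6.RU75.L14
import Cfsg.Agent.Lib.Helper6.RU75.L15
import Cfsg.Agent.Lib.Helper6.RU75.L16
import Cfsg.Agent.Lib.Helper6.RU75.L17

/-!
# S3175 (architect helper6): assembly, sorry-free modulo the leaves L01–L17

Inputs = the conclusions of `Cfsg.Agent.S3174.result` for the Sylow 2-subgroup `T`.
(A) every automorphism of odd order of `T` is trivial, hence `N_G(T) = T × (odd)`.
(B) a `G`-conjugate `U` of `W` inside `T` has `Φ(U) = Z_3(T)` central in `U`, so `U ≤ C_T(Z_3) = W`.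
-/

set_option autoImplicit false

namespace Cfsg.Agent.Lib.Helper6.RU75

open scoped commutatorElement

section A

variable {P : Type*} [Group P] [Finite P]

/-- An automorphism `α` of `P` with `α^[n] = id`, `n` odd, is trivial. -/
theorem aut_trivial (hP : IsPGroup 2 P) (W : Subgroup P)
    (hW : W = Subgroup.centralizer ((Subgroup.upperCentralSeries P 3 : Subgroup P) : Set P))
    (h4 : Nat.card ↥(Subgroup.upperCentralSeries P 4) = 16) (hcard : 16 < Nat.card P)
    (hcomm : (commutator ↥W).map W.subtype = Subgroup.upperCentralSeries P 3)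
    (hquot : ∃ (_ : W.Normal), Nonempty (P ⧸ W ≃* DihedralGroup 4))
    (α : P ≃* P) (n : ℕ) (hn : Odd n) (hαn : ∀ x : P, (⇑α)^[n] x = x) : ∀ x : P, α x = x := by
  obtain ⟨hWn, ⟨e⟩⟩ := hquot
  have hfix4 := fix_Z4 hP h4 hcard α n hn hαn
  have hWmap : W.map α.toMonoidHom = W := by
    rw [hW]; exact map_centralizer_upperCentralSeries α 3
  have hWα : ∀ w ∈ W, α w ∈ W := by
    intro w hw
    have h : α w ∈ W.map α.toMonoidHom := Subgroup.mem_map_of_mem _ hw
    rwa [hWmap] at h
  have hPW := inv_mul_apply_mem_of_dihedral W e α hWmap n hn hαn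
  have hWab := commutator_mem_of_map_eq W _ hcomm
  have hWZ := inv_mul_apply_mem_Z3 hP W hWab α n hn hαn hWα hPW hfix4
  have hfix3 : ∀ x ∈ Subgroup.upperCentralSeries P 3, α x = x := fun x hx =>
    hfix4 x (Subgroup.upperCentralSeries_mono P (by norm_num) hx)
  have hfixW : ∀ w ∈ W, α w = w := fun w hw =>
    stab_step hP α n hn hαn _ hfix3 w (hWZ w hw)
  intro x
  exact stab_step hP α n hn hαn W hfixW x (hPW x)

end A

section B

variable {G : Type*} [Group G] [Finite G]

theorem normalizer_hasNormalPComplement (T : Sylow 2 G) (W : Subgroup ↥(T : Subgroup G))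
    (hW : W = Subgroup.centralizer ((Subgroup.upperCentralSeries ↥(T : Subgroup G) 3 :
      Subgroup ↥(T : Subgroup G)) : Set ↥(T : Subgroup G)))
    (h4 : Nat.card ↥(Subgroup.upperCentralSeries ↥(T : Subgroup G) 4) = 16)
    (hcard : 16 < Nat.card ↥(T : Subgroup G))
    (hcomm : (commutator ↥W).map W.subtype = Subgroup.upperCentralSeries ↥(T : Subgroup G) 3)
    (hquot : ∃ (_ : W.Normal), Nonempty (↥(T : Subgroup G) ⧸ W ≃* DihedralGroup 4)) :
    Cfsg.HasNormalPComplement 2 ↥(Subgroup.normalizer ((T : Subgroup G) : Set G)) := by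
  apply hasNormalPComplement_normalizer T
  intro c hc hodd t ht
  obtain ⟨α, hα⟩ := exists_conjAut (T : Subgroup G) c hc
  have hαn : ∀ x : ↥(T : Subgroup G), (⇑α)^[orderOf c] x = x := by
    intro x
    apply Subtype.ext
    rw [conjAut_iterate (T : Subgroup G) c α hα, pow_orderOf_eq_one]
    simp
  have h := aut_trivial T.isPGroup' W hW h4 hcard hcomm hquot α (orderOf c) hodd hαn ⟨t, ht⟩
  have h2 := hα ⟨t, ht⟩
  rw [h] at h2
  have h3 : t = c * t * c⁻¹ := h2
  calc c * t = (c * t * c⁻¹) * c := by group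
    _ = t * c := by rw [← h3]

theorem weaklyClosed (T : Sylow 2 G) (W : Subgroup ↥(T : Subgroup G))
    (hW : W = Subgroup.centralizer ((Subgroup.upperCentralSeries ↥(T : Subgroup G) 3 :
      Subgroup ↥(T : Subgroup G)) : Set ↥(T : Subgroup G)))
    (hcomm : (commutator ↥W).map W.subtype = Subgroup.upperCentralSeries ↥(T : Subgroup G) 3)
    (hfr : (frattini ↥W).map W.subtype = Subgroup.upperCentralSeries ↥(T : Subgroup G) 3)
    (hquot : ∃ (_ : W.Normal), Nonempty (↥(T : Subgroup G) ⧸ W ≃* DihedralGroup 4))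
    (hsq : ∀ x : ↥W ⧸ commutator ↥W, x ^ 2 = 1)
    (hd : ∀ U : Subgroup ↥W, U.index ≤ 16 → frattini ↥W ≤ U) :
    Cfsg.IsWeaklyClosed (W.map (T : Subgroup G).subtype) (T : Subgroup G) := by
  refine ⟨?_, ?_⟩
  · rintro _ ⟨w, _, rfl⟩
    exact w.2
  · intro g hg
    obtain ⟨U, hU, ⟨e⟩⟩ := exists_equiv_conj (T : Subgroup G) W g hg
    obtain ⟨hWn, ⟨e8⟩⟩ := hquot
    have hcen := frattini_central W _ hW hfr
    obtain ⟨hdU, hcenU, hcardU⟩ := transport_frattini_props e hd hcen
    have hUW : U = W :=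
      eq_of_frattini_conditions T.isPGroup' W U (Subgroup.upperCentralSeries ↥(T : Subgroup G) 3)
        (by rw [hW]) (commutator_mem_of_map_eq W _ hcomm) (sq_mem_of_map_eq W _ hcomm hsq)
        (le_of_eq (index_eq_eight W e8)) hdU
        (by rw [hcardU, card_frattini_eq W _ hfr]) hcenU
        (le_of_eq (Nat.card_congr e.toEquiv))
    rw [← hU, hUW]

end B

end Cfsg.Agent.Lib.Helper6.RU75
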